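import Mathlib

/-!
Orders of lattice quotients twisted by diagonal endomorphisms.
-/

namespace Groth.Agent.Misc36

open Finset

theorem card_quot {M : Type*} [AddCommGroup M] (R K : Submodule ℤ M) :
    Nat.card (K ⧸ R.comap K.subtype) = R.toAddSubgroup.relIndex K.toAddSubgroup := by
  rw [AddSubgroup.relIndex, AddSubgroup.index_eq_card]
  rfl

variable {n : ℕ}

/-- A diagonal endomorphism of `ℤⁿ`. -/
def dg (δ : Fin n → ℤ) : (Fin n → ℤ) →ₗ[ℤ] (Fin n → ℤ) := Matrix.mulVecLin (Matrix.diagonal δ)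

/-- The sum of the coordinates. -/
def sm (n : ℕ) : (Fin n → ℤ) →ₗ[ℤ] ℤ := ∑ i : Fin n, LinearMap.proj i

theorem sm_apply (x : Fin n → ℤ) : sm n x = ∑ i, x i := by simp [sm]

theorem dg_apply (δ x : Fin n → ℤ) (i : Fin n) : dg δ x i = δ i * x i := by simp [dg, Matrix.mulVec_diagonal]

theorem dg_inj {δ : Fin n → ℤ} (hδ : ∀ i, δ i ≠ 0) : Function.Injective (dg δ) := fun x y h =>
  funext fun i => mul_left_cancel₀ (hδ i) (by rw [← dg_apply, ← dg_apply, h])

theorem index_dg {δ : Fin n → ℤ} (hδ : ∀ i, δ i ≠ 0) :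
    (dg δ).range.toAddSubgroup.index = (∏ i, δ i).natAbs := by
  rw [AddSubgroup.index_eq_card]
  refine Eq.trans ?_ (Eq.trans
    (Submodule.natAbs_det_equiv (LinearMap.range (dg δ)) (LinearEquiv.ofInjective _ (dg_inj hδ))).symm ?_)
  · rfl
  · rw [show (LinearMap.range (dg δ)).subtype ∘ₗ AddMonoidHom.toIntLinearMap
      ((LinearEquiv.ofInjective _ (dg_inj hδ) : (Fin n → ℤ) ≃ₗ[ℤ] LinearMap.range (dg δ)) : (Fin n → ℤ) →+ _)
      = Matrix.toLin' (Matrix.diagonal δ) from LinearMap.ext fun x => rfl, LinearMap.det_toLin', Matrix.det_diagonal]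

theorem natAbs_dvd_gcd_int {ι : Type*} (s : Finset ι) (f : ι → ℤ) : 0 ≤ s.gcd f :=
  (Int.nonneg_iff_normalize_eq_self _).1 Finset.normalize_gcd

theorem index_sum (hn : 0 < n) (δ : Fin n → ℤ) (hδ : ∀ i, δ i ≠ 0) :
    (univ.gcd δ).natAbs * (dg δ).range.toAddSubgroup.relIndex (sm n).ker.toAddSubgroup = (∏ i, δ i).natAbs := by
  classical
  set R := (dg δ).range.toAddSubgroup
  set K := (sm n).ker.toAddSubgroup
  have h1 : R.relIndex (K ⊔ R) * (K ⊔ R).index = R.index := AddSubgroup.relIndex_mul_index le_sup_right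
  rw [AddSubgroup.relIndex_sup_right] at h1
  have hsurj : Function.Surjective (sm n).toAddMonoidHom := fun t =>
    ⟨Pi.single ⟨0, hn⟩ t, by simp [sm_apply]⟩
  have h2 : (K ⊔ R).index = (univ.gcd δ).natAbs := by
    have hk : (sm n).toAddMonoidHom.ker ≤ K ⊔ R := le_sup_of_le_left (fun x hx => hx)
    rw [← AddSubgroup.index_map_eq (K ⊔ R) hsurj hk, AddSubgroup.map_sup]
    have e1 : K.map (sm n).toAddMonoidHom = ⊥ := by
      rw [eq_bot_iff]
      rintro _ ⟨x, hx, rfl⟩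
      exact hx
    have e2 : R.map (sm n).toAddMonoidHom = AddSubgroup.zmultiples (univ.gcd δ) := by
      ext t
      rw [Int.mem_zmultiples_iff, AddSubgroup.mem_map]
      constructor
      · rintro ⟨_, ⟨x, rfl⟩, rfl⟩
        show univ.gcd δ ∣ sm n (dg δ x)
        rw [sm_apply]
        exact dvd_sum fun i _ => by rw [dg_apply]; exact Dvd.dvd.mul_right (gcd_dvd (mem_univ i)) _
      · rintro ⟨c, rfl⟩
        obtain ⟨a, ha⟩ := gcd_eq_sum_mul univ δ
        refine ⟨dg δ (fun i => c * a i), ⟨_, rfl⟩, ?_⟩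
        show sm n (dg δ _) = _
        rw [sm_apply, ha, sum_mul]
        exact sum_congr rfl fun i _ => by rw [dg_apply]; ring
    rw [e1, e2, bot_sup_eq, Int.index_zmultiples]
  rw [h2, index_dg hδ] at h1
  rw [mul_comm]; exact h1

theorem first_count (hn : 0 < n) (δ : Fin n → ℤ) (hδ : ∀ i, δ i ≠ 0) (A : (Fin n → ℤ) →ₗ[ℤ] (Fin n → ℤ))
    (hSDA : sm n ∘ₗ dg δ ∘ₗ A = 0) :
    A.range.toAddSubgroup.relIndex (sm n ∘ₗ dg δ).ker.toAddSubgroup * (∏ i, δ i).natAbs =
      (univ.gcd δ).natAbs * (dg δ ∘ₗ A).range.toAddSubgroup.relIndex (sm n).ker.toAddSubgroup := by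
  rw [← index_sum hn δ hδ]
  set X := A.range.toAddSubgroup.relIndex (sm n ∘ₗ dg δ).ker.toAddSubgroup
  set D := (dg δ).range.toAddSubgroup
  set K := (sm n).ker.toAddSubgroup
  have e1 : X = (dg δ ∘ₗ A).range.toAddSubgroup.relIndex (D ⊓ K) := by
    simp only [X]
    rw [← AddSubgroup.relIndex_map_map_of_injective (f := (dg δ).toAddMonoidHom) _ _ (dg_inj hδ)]
    congr 1
    · ext y
      constructor
      · rintro ⟨_, ⟨x, rfl⟩, rfl⟩; exact ⟨x, rfl⟩
      · rintro ⟨x, rfl⟩; exact ⟨A x, ⟨x, rfl⟩, rfl⟩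
    · ext y
      constructor
      · rintro ⟨x, hx, rfl⟩; exact ⟨⟨x, rfl⟩, hx⟩
      · rintro ⟨⟨x, rfl⟩, hy⟩; exact ⟨x, hy, rfl⟩
  have hle : (dg δ ∘ₗ A).range.toAddSubgroup ≤ D ⊓ K := by
    rintro _ ⟨x, rfl⟩
    exact ⟨⟨A x, rfl⟩, LinearMap.congr_fun hSDA x⟩
  have e2 := AddSubgroup.relIndex_mul_relIndex _ _ _ hle (inf_le_right : D ⊓ K ≤ K)
  rw [AddSubgroup.inf_relIndex_right] at e2
  rw [← e2, e1]
  ring

theorem second_count (hn : 0 < n) (δ δ' : Fin n → ℤ) (hδ : ∀ i, δ i ≠ 0) (hδ' : ∀ i, δ' i ≠ 0)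
    (A : Matrix (Fin n) (Fin n) ℤ) (hA : A.rank = n - 1)
    (hSDA : sm n ∘ₗ dg δ ∘ₗ A.mulVecLin = 0) (hADΔ : A.mulVecLin δ' = 0) :
    (dg δ ∘ₗ A.mulVecLin ∘ₗ dg δ').range.toAddSubgroup.relIndex (sm n).ker.toAddSubgroup * (univ.gcd δ').natAbs =
      (dg δ ∘ₗ A.mulVecLin).range.toAddSubgroup.relIndex (sm n).ker.toAddSubgroup * (∏ i, δ' i).natAbs := by
  classical
  set Am := A.mulVecLin
  set g' := univ.gcd δ'
  have hg0 : g' ≠ 0 := fun h => hδ' ⟨0, hn⟩ (gcd_eq_zero_iff.1 h _ (mem_univ _))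
  choose v hv using fun i => (gcd_dvd (mem_univ i) : g' ∣ δ' i)
  obtain ⟨a, ha⟩ := gcd_eq_sum_mul univ δ'
  have hbez : ∑ i, v i * a i = 1 := by
    refine mul_left_cancel₀ hg0 ?_
    rw [mul_one, mul_sum]
    conv_rhs => rw [show g' = ∑ i, δ' i * a i from ha]
    exact sum_congr rfl fun i _ => by rw [hv i]; ring
  have hv0 : Am v = 0 := by
    have h1 : g' • Am v = 0 := by
      rw [← map_smul, show g' • v = δ' from funext fun i => by rw [Pi.smul_apply, smul_eq_mul, ← hv i]]; exact hADΔ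
    exact (smul_eq_zero.1 h1).resolve_left hg0
  have hvne : v ≠ 0 := fun h => by simp [h] at hbez
  have hker : Am.ker = Submodule.span ℤ {v} := by
    refine le_antisymm ?_ ((Submodule.span_singleton_le_iff_mem _ _).2 hv0)
    have hrk : Module.finrank ℤ Am.ker = 1 := by
      have h1 := Submodule.finrank_quotient_add_finrank Am.ker
      rw [(Am.quotKerEquivRange).finrank_eq, Module.finrank_pi, Fintype.card_fin,
        show Module.finrank ℤ Am.range = n - 1 from hA] at h1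
      omega
    let b := (Module.finBasisOfFinrankEq ℤ Am.ker hrk)
    intro w hw
    have hrep : ∀ x : Am.ker, (x : Fin n → ℤ) = b.repr x 0 • ((b 0 : Am.ker) : Fin n → ℤ) := fun x => by
      conv_lhs => rw [← b.sum_repr x]
      simp
    have e1 := hrep ⟨v, hv0⟩
    have e2 := hrep ⟨w, hw⟩
    simp only at e1 e2
    set s := b.repr ⟨v, hv0⟩ 0
    set u := ((b 0 : Am.ker) : Fin n → ℤ)
    have hs : s * ∑ i, u i * a i = 1 := by
      rw [← hbez, mul_sum]
      exact sum_congr rfl fun i _ => by rw [e1]; simp; ring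
    rw [Submodule.mem_span_singleton, e2]
    refine ⟨b.repr ⟨w, hw⟩ 0 * ∑ i, u i * a i, ?_⟩
    conv_lhs => rw [e1, smul_smul, mul_assoc, mul_comm (∑ i, u i * a i), hs, mul_one]
  set D' := (dg δ').range.toAddSubgroup
  have h1 : (D' ⊔ Am.toAddMonoidHom.ker).index * g'.natAbs = (∏ i, δ' i).natAbs := by
    have e := AddSubgroup.relIndex_mul_index (H := D') (K := Am.toAddMonoidHom.ker ⊔ D') le_sup_right
    rw [AddSubgroup.relIndex_sup_right, index_dg hδ'] at e
    have hk : Am.toAddMonoidHom.ker = (LinearMap.toSpanSingleton ℤ (Fin n → ℤ) v).toAddMonoidHom.range := by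
      ext x
      show x ∈ Am.ker ↔ _
      rw [hker, ← LinearMap.range_toSpanSingleton]
      rfl
    have e2 : D'.comap (LinearMap.toSpanSingleton ℤ (Fin n → ℤ) v).toAddMonoidHom = AddSubgroup.zmultiples g' := by
      ext t
      rw [Int.mem_zmultiples_iff, AddSubgroup.mem_comap]
      show (LinearMap.toSpanSingleton ℤ (Fin n → ℤ) v t) ∈ (dg δ').range ↔ g' ∣ t
      rw [LinearMap.toSpanSingleton_apply]
      constructor
      · rintro ⟨x, hx⟩
        have : ∀ i, g' * x i = t ∨ v i = 0 := fun i => by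
          have := congrFun hx i
          rw [dg_apply, hv i] at this
          simp at this
          rcases eq_or_ne (v i) 0 with h | h
          · exact Or.inr h
          · exact Or.inl (mul_left_cancel₀ h (by linear_combination this))
        obtain ⟨i, hi⟩ := Function.ne_iff.1 hvne
        exact ⟨x i, ((this i).resolve_right hi).symm⟩
      · rintro ⟨c, rfl⟩
        exact ⟨fun _ => c, funext fun i => by rw [dg_apply, hv i]; simp; ring⟩
    have e3 : D'.relIndex Am.toAddMonoidHom.ker = g'.natAbs := by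
      rw [hk, ← AddSubgroup.index_comap, e2, Int.index_zmultiples]
    rw [e3, sup_comm] at e
    rw [mul_comm]; exact e
  have hle : (dg δ ∘ₗ Am ∘ₗ dg δ').range.toAddSubgroup ≤ (dg δ ∘ₗ Am).range.toAddSubgroup := by
    rintro _ ⟨x, rfl⟩; exact ⟨dg δ' x, rfl⟩
  have hle2 : (dg δ ∘ₗ Am).range.toAddSubgroup ≤ (sm n).ker.toAddSubgroup := by
    rintro _ ⟨x, rfl⟩; exact LinearMap.congr_fun hSDA x
  have e := AddSubgroup.relIndex_mul_relIndex _ _ _ hle hle2
  have e4 : (dg δ ∘ₗ Am ∘ₗ dg δ').range.toAddSubgroup.relIndex (dg δ ∘ₗ Am).range.toAddSubgroup =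
      (D' ⊔ Am.toAddMonoidHom.ker).index := by
    have : (D'.map Am.toAddMonoidHom).relIndex ((⊤ : AddSubgroup _).map Am.toAddMonoidHom) =
        (D' ⊔ Am.toAddMonoidHom.ker).index := by
      rw [AddSubgroup.relIndex_map_map, top_sup_eq, AddSubgroup.relIndex_top_right]
    rw [← this, ← AddSubgroup.relIndex_map_map_of_injective (f := (dg δ).toAddMonoidHom) (D'.map Am.toAddMonoidHom)
      ((⊤ : AddSubgroup _).map Am.toAddMonoidHom) (dg_inj hδ)]
    congr 1
    · ext y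
      constructor
      · rintro ⟨x, rfl⟩; exact ⟨_, ⟨_, ⟨x, rfl⟩, rfl⟩, rfl⟩
      · rintro ⟨_, ⟨_, ⟨x, rfl⟩, rfl⟩, rfl⟩; exact ⟨x, rfl⟩
    · ext y
      constructor
      · rintro ⟨x, rfl⟩; exact ⟨_, ⟨x, trivial, rfl⟩, rfl⟩
      · rintro ⟨_, ⟨x, -, rfl⟩, rfl⟩; exact ⟨x, rfl⟩
  rw [← e, e4, ← h1]
  ring

end Groth.Agent.Misc36
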