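import Mathlib

/-!
The greatest common divisor of `∏ (ℓ^(2a) - 1)` over large primes `ℓ`.
-/

namespace Groth.Agent.Misc36

open Finset

/-- The exponent of `p` in the gcd. -/
def expo (g p : ℕ) : ℕ :=
  if p = 2 then 3 * g + padicValNat 2 g.factorial
  else (2 * g) / (p - 1) + ∑ i ∈ Icc 1 ((2 * g) / (p - 1)), padicValNat p i

theorem sum_val_factorial (p : ℕ) [Fact p.Prime] (g : ℕ) :
    ∑ a ∈ Icc 1 g, padicValNat p a = padicValNat p g.factorial := by
  induction g with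
  | zero => simp
  | succ g ih =>
    rw [sum_Icc_succ_top (by omega), ih, Nat.factorial_succ,
      padicValNat.mul (by omega) (Nat.factorial_ne_zero g)]
    ring

theorem val_two {ℓ a : ℕ} (hℓ : 1 < ℓ) (h2 : ¬ 2 ∣ ℓ) (ha : a ≠ 0) :
    3 + padicValNat 2 a ≤ padicValNat 2 (ℓ ^ (2 * a) - 1) ∧
      (ℓ % 8 = 3 → padicValNat 2 (ℓ ^ (2 * a) - 1) = 3 + padicValNat 2 a) := by
  have := Fact.mk Nat.prime_two
  have hv : padicValNat 2 (2 * a) = 1 + padicValNat 2 a := by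
    rw [padicValNat.mul (by norm_num) ha, padicValNat.self (by norm_num)]
  refine ⟨?_, fun h3 => ?_⟩
  · have := padicValNat.pow_two_sub_one_ge hℓ h2 (n := 2 * a) (by omega) ⟨a, by omega⟩
    omega
  · have := padicValNat.pow_two_sub_one hℓ h2 (n := 2 * a) (by omega) ⟨a, by omega⟩
    have e1 : padicValNat 2 (ℓ - 1) = 1 := by
      obtain ⟨k, hk⟩ : ∃ k, ℓ - 1 = 2 * (2 * k + 1) := ⟨(ℓ - 3) / 4, by omega⟩
      rw [hk, padicValNat.mul (by norm_num) (by omega), padicValNat.self (by norm_num),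
        padicValNat.eq_zero_of_not_dvd (by omega : ¬ 2 ∣ 2 * k + 1)]
    have e2 : padicValNat 2 (ℓ + 1) = 2 := by
      obtain ⟨k, hk⟩ : ∃ k, ℓ + 1 = 2 ^ 2 * (2 * k + 1) := ⟨(ℓ - 3) / 8, by omega⟩
      rw [hk, padicValNat.mul (by norm_num) (by omega), padicValNat.prime_pow,
        padicValNat.eq_zero_of_not_dvd (by omega : ¬ 2 ∣ 2 * k + 1)]
    omega

variable {p : ℕ} [hp : Fact p.Prime]

theorem not_dvd_pred : ¬ p ∣ p - 1 := fun h => by
  have h2 := hp.out.two_le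
  have := Nat.le_of_dvd (by omega) h
  omega

theorem fermat {ℓ : ℕ} (hℓp : ¬ p ∣ ℓ) : p ∣ ℓ ^ (p - 1) - 1 := by
  rw [← Nat.modEq_iff_dvd' (Nat.one_le_pow _ _ (Nat.pos_of_ne_zero fun h => hℓp (by rw [h]; exact dvd_zero p)))]
  have := Nat.ModEq.pow_totient ((hp.out.coprime_iff_not_dvd.2 hℓp).symm)
  rw [Nat.totient_prime hp.out] at this
  exact this.symm

theorem val_odd (hodd : Odd p) {ℓ a : ℕ} (hℓ : 1 < ℓ) (hℓp : ¬ p ∣ ℓ) (ha : a ≠ 0)
    (hdvd : (p - 1) ∣ 2 * a) :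
    padicValNat p (ℓ ^ (2 * a) - 1) = padicValNat p (ℓ ^ (p - 1) - 1) + padicValNat p a := by
  obtain ⟨j, hj⟩ := hdvd
  have h2 := hp.out.two_le
  have hj0 : j ≠ 0 := by rintro rfl; simp at hj; exact ha hj
  have h1 : 1 < ℓ ^ (p - 1) := Nat.one_lt_pow (by omega) hℓ
  have hv : padicValNat p j = padicValNat p a := by
    have e : padicValNat p (2 * a) = padicValNat p ((p - 1) * j) := by rw [hj]
    have h2n : ¬ p ∣ 2 := fun h => by
      have := Nat.le_of_dvd (by norm_num) h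
      obtain ⟨k, hk⟩ := hodd
      omega
    rw [padicValNat.mul (by norm_num) ha, padicValNat.mul (by omega) hj0,
      padicValNat.eq_zero_of_not_dvd h2n, padicValNat.eq_zero_of_not_dvd not_dvd_pred] at e
    omega
  rw [hj, pow_mul, ← hv]
  have := padicValNat.pow_sub_pow (y := 1) hodd h1 (fermat hℓp)
    (fun h => hℓp (hp.out.dvd_of_dvd_pow h)) (n := j) hj0
  simpa using this

theorem val_ge_one {ℓ : ℕ} (hℓ : 1 < ℓ) (hℓp : ¬ p ∣ ℓ) : 1 ≤ padicValNat p (ℓ ^ (p - 1) - 1) :=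
  one_le_padicValNat_of_dvd (by have := Nat.one_lt_pow (n := p - 1) (by have := hp.out.two_le; omega) hℓ; omega)
    (fermat hℓp)

theorem sum_multiples (g : ℕ) (hodd : Odd p) :
    ∑ a ∈ (Icc 1 g).filter (fun a => (p - 1) ∣ 2 * a), (1 + padicValNat p a) =
      (2 * g) / (p - 1) + ∑ i ∈ Icc 1 ((2 * g) / (p - 1)), padicValNat p i := by
  obtain ⟨h, hh⟩ := hodd
  have h0 : 0 < h := by have := hp.out.two_le; omega
  have hp1 : p - 1 = 2 * h := by omega
  have hK : (2 * g) / (p - 1) = g / h := by rw [hp1, Nat.mul_div_mul_left _ _ (by norm_num)]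
  rw [hK]
  have : (Icc 1 g).filter (fun a => (p - 1) ∣ 2 * a) = (Icc 1 (g / h)).image (fun i => h * i) := by
    ext a
    simp only [mem_filter, mem_Icc, mem_image, hp1]
    constructor
    · rintro ⟨⟨a1, a2⟩, ha⟩
      obtain ⟨i, rfl⟩ := Nat.dvd_of_mul_dvd_mul_left (by norm_num) ha
      refine ⟨i, ⟨Nat.pos_of_ne_zero fun h' => by simp [h'] at a1, ?_⟩, rfl⟩
      exact (Nat.le_div_iff_mul_le h0).2 (by linarith)
    · rintro ⟨i, ⟨i1, i2⟩, rfl⟩
      refine ⟨⟨Nat.mul_pos h0 i1, ?_⟩, mul_dvd_mul_left 2 (dvd_mul_right h i)⟩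
      have := (Nat.le_div_iff_mul_le h0).1 i2
      linarith
  rw [this, sum_image fun x _ y _ hxy => Nat.eq_of_mul_eq_mul_left h0 hxy, sum_add_distrib]
  simp only [sum_const, Nat.card_Icc, smul_eq_mul, mul_one, Nat.add_sub_cancel]
  congr 1
  refine sum_congr rfl fun i hi => ?_
  rw [mem_Icc] at hi
  rw [padicValNat.mul (by omega) (by omega), padicValNat.eq_zero_of_not_dvd, zero_add]
  intro hd
  have := Nat.le_of_dvd h0 hd
  omega

theorem val_prod {ℓ g : ℕ} (hℓ : 1 < ℓ) :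
    padicValNat p (∏ a ∈ Icc 1 g, (ℓ ^ (2 * a) - 1)) = ∑ a ∈ Icc 1 g, padicValNat p (ℓ ^ (2 * a) - 1) := by
  induction g with
  | zero => simp
  | succ g ih =>
    have hne : ∀ a, 1 ≤ a → ℓ ^ (2 * a) - 1 ≠ 0 := fun a ha => by
      have := Nat.one_lt_pow (n := 2 * a) (by omega) hℓ; omega
    rw [prod_Icc_succ_top (by omega), sum_Icc_succ_top (by omega),
      padicValNat.mul (prod_ne_zero_iff.2 fun a ha => hne a (mem_Icc.1 ha).1) (hne _ (by omega)), ih]

theorem expo_le (g : ℕ) {ℓ : ℕ} (hℓ : 1 < ℓ) (hℓp : ¬ p ∣ ℓ) :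
    expo g p ≤ padicValNat p (∏ a ∈ Icc 1 g, (ℓ ^ (2 * a) - 1)) := by
  rw [val_prod hℓ, expo]
  split_ifs with h2
  · subst h2
    rw [← sum_val_factorial, show 3 * g = ∑ _a ∈ Icc 1 g, 3 by simp [mul_comm], ← sum_add_distrib]
    exact sum_le_sum fun a ha => (val_two hℓ hℓp (by have := (mem_Icc.1 ha).1; omega)).1
  · have hodd := hp.out.odd_of_ne_two h2
    rw [← sum_multiples g hodd, sum_filter]
    refine sum_le_sum fun a ha => ?_
    split_ifs with hd
    · rw [val_odd hodd hℓ hℓp (by have := (mem_Icc.1 ha).1; omega) hd]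
      have := val_ge_one (p := p) hℓ hℓp
      omega
    · exact Nat.zero_le _

theorem exists_sharp (g B : ℕ) :
    ∃ ℓ, B < ℓ ∧ ℓ.Prime ∧ padicValNat p (∏ a ∈ Icc 1 g, (ℓ ^ (2 * a) - 1)) = expo g p := by
  by_cases h2 : p = 2
  · subst h2
    obtain ⟨ℓ, hlt, hℓ, hmod⟩ := Nat.forall_exists_prime_gt_and_modEq B (q := 8) (a := 3) (by norm_num) (by norm_num)
    have h3 : ℓ % 8 = 3 := by simpa [Nat.ModEq] using hmod
    refine ⟨ℓ, hlt, hℓ, ?_⟩
    rw [val_prod hℓ.one_lt, expo, if_pos rfl, ← sum_val_factorial, show 3 * g = ∑ _a ∈ Icc 1 g, 3 by simp [mul_comm],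
      ← sum_add_distrib]
    exact sum_congr rfl fun a ha => (val_two hℓ.one_lt (by omega) (by have := (mem_Icc.1 ha).1; omega)).2 h3
  have hodd := hp.out.odd_of_ne_two h2
  have : NeZero (p ^ 2) := ⟨pow_ne_zero _ hp.out.ne_zero⟩
  have := ZMod.isCyclic_units_of_prime_pow p hp.out h2 2
  obtain ⟨u, hu⟩ := IsCyclic.exists_ofOrder_eq_natCard (α := (ZMod (p ^ 2))ˣ)
  rw [Nat.card_eq_fintype_card, ZMod.card_units_eq_totient, Nat.totient_prime_pow hp.out (by norm_num)] at hu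
  have hcop : ((u : ZMod (p ^ 2)).val).Coprime (p ^ 2) := ZMod.val_coe_unit_coprime u
  obtain ⟨ℓ, hlt, hℓ, hmod⟩ := Nat.forall_exists_prime_gt_and_modEq B (pow_ne_zero 2 hp.out.ne_zero) hcop
  have hcast : (ℓ : ZMod (p ^ 2)) = (u : ZMod (p ^ 2)) := by
    rw [(ZMod.natCast_eq_natCast_iff _ _ _).2 hmod, ZMod.natCast_zmod_val]
  have hℓp : ¬ p ∣ ℓ := fun h => by
    have h1 : Nat.Coprime ℓ (p ^ 2) := by
      rw [Nat.coprime_iff_gcd_eq_one, hmod.gcd_eq, ← Nat.coprime_iff_gcd_eq_one]; exact hcop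
    exact hp.out.ne_one (Nat.dvd_one.1 (h1 ▸ Nat.dvd_gcd h (dvd_pow_self p (by norm_num))))
  have hord : ∀ k, p ^ 2 ∣ ℓ ^ k - 1 → p * (p - 1) ∣ k := fun k hk => by
    have h1 : 1 ≤ ℓ ^ k := Nat.one_le_pow _ _ hℓ.pos
    rw [show p * (p - 1) = orderOf u by rw [hu, show 2 - 1 = 1 from rfl, pow_one], orderOf_dvd_iff_pow_eq_one]
    ext
    rw [Units.val_pow_eq_pow_val, ← hcast, Units.val_one, ← Nat.cast_pow, ← Nat.cast_one,
      ZMod.natCast_eq_natCast_iff]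
    exact ((Nat.modEq_iff_dvd' h1).2 hk).symm
  have hp1 : padicValNat p (ℓ ^ (p - 1) - 1) = 1 := by
    refine le_antisymm ?_ (val_ge_one hℓ.one_lt hℓp)
    by_contra hgt
    push Not at hgt
    have := Nat.le_of_dvd (by have := hp.out.two_le; omega) (hord (p - 1) ((pow_dvd_pow p hgt).trans pow_padicValNat_dvd))
    have := Nat.mul_le_mul_right (p - 1) hp.out.two_le
    have := hp.out.two_le
    omega
  refine ⟨ℓ, hlt, hℓ, ?_⟩
  rw [val_prod hℓ.one_lt, expo, if_neg h2, ← sum_multiples g hodd, sum_filter]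
  refine sum_congr rfl fun a ha => ?_
  have ha0 : a ≠ 0 := by have := (mem_Icc.1 ha).1; omega
  split_ifs with hd
  · rw [val_odd hodd hℓ.one_lt hℓp ha0 hd, hp1]
  · refine padicValNat.eq_zero_of_not_dvd fun hdiv => hd ?_
    -- raise to the `p`-th power
    have h1 : 1 ≤ ℓ ^ (2 * a) := Nat.one_le_pow _ _ hℓ.pos
    have hsq : p ^ 2 ∣ ℓ ^ (2 * a * p) - 1 := by
      rw [← Int.natCast_dvd_natCast, Nat.cast_sub (Nat.one_le_pow _ _ hℓ.pos)]
      push_cast
      have hd' : (p : ℤ) ∣ ((ℓ : ℤ) ^ (2 * a)) - 1 := by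
        have := Int.natCast_dvd_natCast.2 hdiv
        rwa [Nat.cast_sub h1, Nat.cast_pow, Nat.cast_one] at this
      have h := dvd_sub_pow_of_dvd_sub (R := ℤ) (p := p) hd' 1
      simpa [← pow_mul] using h
    exact Nat.dvd_of_mul_dvd_mul_left hp.out.pos (by rw [mul_comm p (2 * a)]; exact hord _ hsq)

theorem forall_dvd_iff (g B d : ℕ) (hB : 2 * g + 1 ≤ B) :
    (∀ ℓ : ℕ, ℓ.Prime → B < ℓ → d ∣ ∏ a ∈ Icc 1 g, (ℓ ^ (2 * a) - 1)) ↔
      d ∣ 2 ^ (3 * g + padicValNat 2 g.factorial) *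
        ∏ p ∈ (Icc 3 (2 * g + 1)).filter Nat.Prime,
          p ^ ((2 * g) / (p - 1) + ∑ i ∈ Icc 1 ((2 * g) / (p - 1)), padicValNat p i) := by
  set N := 2 ^ (3 * g + padicValNat 2 g.factorial) *
        ∏ p ∈ (Icc 3 (2 * g + 1)).filter Nat.Prime,
          p ^ ((2 * g) / (p - 1) + ∑ i ∈ Icc 1 ((2 * g) / (p - 1)), padicValNat p i)
  have hne0 : ∀ q ∈ (Icc 3 (2 * g + 1)).filter Nat.Prime, ∀ k, q ^ k ≠ 0 := fun q hq k =>
    pow_ne_zero k (mem_filter.1 hq).2.ne_zero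
  have hN : N ≠ 0 := mul_ne_zero (pow_ne_zero _ (by norm_num)) (prod_ne_zero_iff.2 fun q hq => hne0 q hq _)
  have hfac : ∀ q : ℕ, q.Prime → N.factorization q = expo g q := fun q hq => by
    simp only [N]
    rw [Nat.factorization_mul (pow_ne_zero _ (by norm_num)) (prod_ne_zero_iff.2 fun q hq => hne0 q hq _),
      Finsupp.add_apply, Nat.factorization_prod_apply fun q hq => hne0 q hq _, Nat.Prime.factorization_pow Nat.prime_two]
    rw [sum_congr rfl (g := fun r => if r = q then (2 * g) / (r - 1) + ∑ i ∈ Icc 1 ((2 * g) / (r - 1)), padicValNat r i else 0)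
      fun r hr => by rw [(mem_filter.1 hr).2.factorization_pow, Finsupp.single_apply], sum_ite_eq', Finsupp.single_apply,
      expo]
    simp only [mem_filter, mem_Icc, hq, and_true, eq_comm (a := 2)]
    by_cases h : q = 2
    · subst h; simp
    · rw [if_neg h, if_neg h, zero_add]
      split_ifs with hr
      · rfl
      · have := hq.two_le
        have : (2 * g) / (q - 1) = 0 := Nat.div_eq_of_lt (by omega)
        simp [this]
  have hprod : ∀ ℓ : ℕ, ℓ.Prime → ∏ a ∈ Icc 1 g, (ℓ ^ (2 * a) - 1) ≠ 0 := fun ℓ hℓ =>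
    prod_ne_zero_iff.2 fun a ha => by
      have := Nat.one_lt_pow (n := 2 * a) (by have := (mem_Icc.1 ha).1; omega) hℓ.one_lt; omega
  rcases eq_or_ne d 0 with rfl | hd
  · refine iff_of_false (fun h => ?_) (fun h => hN (zero_dvd_iff.1 h))
    obtain ⟨ℓ, hlt, hℓ⟩ := Nat.exists_infinite_primes (B + 1)
    exact hprod ℓ hℓ (zero_dvd_iff.1 (h ℓ hℓ (by omega)))
  constructor
  · intro h
    rw [← Nat.factorization_prime_le_iff_dvd hd hN]
    intro q hq
    have := Fact.mk hq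
    obtain ⟨ℓ, hlt, hℓ, hval⟩ := exists_sharp (p := q) g B
    have := (Nat.factorization_prime_le_iff_dvd hd (hprod ℓ hℓ)).2 (h ℓ hℓ hlt) q hq
    rwa [Nat.factorization_def (∏ a ∈ Icc 1 g, (ℓ ^ (2 * a) - 1)) hq, hval, ← hfac q hq] at this
  · intro h ℓ hℓ hlt
    rw [← Nat.factorization_prime_le_iff_dvd hd (hprod ℓ hℓ)]
    intro q hq
    have := Fact.mk hq
    have h' := (Nat.factorization_prime_le_iff_dvd hd hN).2 h q hq
    rw [hfac q hq] at h'
    rw [Nat.factorization_def (∏ a ∈ Icc 1 g, (ℓ ^ (2 * a) - 1)) hq]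
    by_cases hql : q ∣ ℓ
    · have hqe : q = ℓ := (Nat.prime_dvd_prime_iff_eq hq hℓ).1 hql
      have h0 : expo g q = 0 := by
        have : (2 * g) / (q - 1) = 0 := Nat.div_eq_of_lt (by omega)
        rw [expo]
        split_ifs with h2
        · rw [show g = 0 by omega]; simp
        · simp [this]
      omega
    · exact h'.trans (expo_le g hℓ.one_lt hql)

end Groth.Agent.Misc36
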