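import Mathlib

/-!
Two facts about matrices and automorphisms over `ℤ_ℓ`.
-/

universe u v

namespace Groth.Agent.Misc36

open Finset Polynomial

theorem charpoly_smul_coeff {R : Type*} [CommRing R] [IsDomain R] {g : ℕ} {c : R} (hc : c ≠ 0)
    (B : Matrix (Fin g) (Fin g) R) {k : ℕ} (hk : k ≤ g) :
    (c • B).charpoly.coeff k = c ^ (g - k) * B.charpoly.coeff k := by
  have h1 : (c • B).charpoly.comp (C c * X) = C (c ^ g) * B.charpoly := by
    simp only [Matrix.charpoly]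
    rw [← coe_compRingHom_apply, RingHom.map_det,
      show (compRingHom (C c * X)).mapMatrix (Matrix.charmatrix (c • B)) = C c • Matrix.charmatrix B from ?_,
      Matrix.det_smul, Fintype.card_fin, map_pow]
    ext i j : 1
    by_cases h : i = j
    · subst h; simp [coe_compRingHom_apply]; ring
    · simp [coe_compRingHom_apply, Matrix.charmatrix_apply_ne _ _ _ h]
  have h2 := congrArg (fun q => Polynomial.coeff q k) h1
  simp only [comp_C_mul_X_coeff, coeff_C_mul] at h2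
  refine mul_right_cancel₀ (pow_ne_zero k hc) ?_
  rw [h2, mul_right_comm, ← pow_add, Nat.sub_add_cancel hk]

theorem charpoly_sq {R : Type*} [CommRing R] {g : ℕ} (A : Matrix (Fin g) (Fin g) R) :
    expand R 2 ((A - 1) ^ 2).charpoly =
      C ((-1) ^ g) * (A.charpoly.comp (1 + X) * A.charpoly.comp (1 - X)) := by
  have hp : ∀ q : R[X], A.charpoly.comp q = (Matrix.diagonal (fun _ => q) - A.map C).det := fun q => by
    rw [Matrix.charpoly, ← coe_compRingHom_apply, RingHom.map_det]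
    congr 1
    ext i j : 1
    by_cases h : i = j
    · subst h; simp [coe_compRingHom_apply]
    · simp [coe_compRingHom_apply, Matrix.charmatrix_apply_ne _ _ _ h, h]
  rw [hp, hp, Matrix.charpoly, AlgHom.map_det, show C ((-1 : R) ^ g) = (-1 : R[X]) ^ Fintype.card (Fin g) by simp,
    mul_comm ((Matrix.diagonal fun _ : Fin g => (1 + X : R[X])) - A.map C).det, ← mul_assoc, ← Matrix.det_neg,
    ← Matrix.det_mul]
  congr 1
  have hd : ∀ q : R[X], Matrix.diagonal (fun _ : Fin g => q) = q • (1 : Matrix (Fin g) (Fin g) R[X]) := fun q => by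
    ext i j : 1
    by_cases h : i = j <;> simp [h]
  have hsq : ((A - 1) ^ 2).map C = (A.map C - 1) * (A.map C - 1) := by
    show (C : R →+* R[X]).mapMatrix ((A - 1) ^ 2) =
      ((C : R →+* R[X]).mapMatrix A - 1) * ((C : R →+* R[X]).mapMatrix A - 1)
    rw [map_pow, map_sub, map_one, sq]
  have hL : (expand R 2).mapMatrix (Matrix.charmatrix ((A - 1) ^ 2)) =
      Matrix.diagonal (fun _ => (X : R[X]) ^ 2) - ((A - 1) ^ 2).map C := by
    ext i j : 1
    by_cases h : i = j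
    · subst h; simp
    · simp [Matrix.charmatrix_apply_ne _ _ _ h, h]
  rw [hL, hsq, hd, hd, hd]
  simp only [add_smul, sub_smul, one_smul, neg_sub, mul_sub, sub_mul, mul_add, smul_mul_assoc, mul_smul_comm,
    one_mul, mul_one, smul_sub]
  rw [sq, mul_smul]
  abel

theorem isIntegral_root_div_sqrt (n : ℕ) (hn : 0 < n) (g : ℕ) (f : Polynomial ℤ) (hf : f.Monic)
    (hA : ∀ (ℓ : ℕ) [Fact ℓ.Prime], ℓ ∣ n → ∃ A : Matrix (Fin g) (Fin g) ℤ_[ℓ],
      A.charpoly = f.map (Int.castRingHom ℤ_[ℓ]) ∧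
        ∃ B : Matrix (Fin g) (Fin g) ℤ_[ℓ], (A - 1) ^ 2 = (n : ℤ_[ℓ]) • B)
    (K : Type v) [Field K] [CharZero K] (α s : K) (hα : Polynomial.aeval α f = 0) (hs : s ^ 2 = (n : K)) :
    IsIntegral ℤ ((α - 1) / s) := by
  have hαi : IsIntegral ℤ α := ⟨f, hf, hα⟩
  rcases eq_or_ne n 1 with rfl | hn1
  · have hs1 : s ^ 2 = 1 := by simpa using hs
    rcases sq_eq_one_iff.1 hs1 with rfl | rfl
    · simpa using hαi.sub isIntegral_one
    · simpa [div_neg] using (hαi.sub isIntegral_one).neg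
  set T : ℤ[X] := C ((-1) ^ g) * (f.comp (1 + X) * f.comp (1 - X))
  have hloc : ∀ (ℓ : ℕ) [Fact ℓ.Prime], ℓ ∣ n → ∀ j,
      (¬ 2 ∣ j → T.coeff j = 0) ∧ (2 * g < j → T.coeff j = 0) ∧
        ∀ k, j = 2 * k → k ≤ g → ((n : ℤ_[ℓ]) ^ (g - k) ∣ (T.coeff j : ℤ_[ℓ]) ∧ (k = g → T.coeff j = 1)) := by
    intro ℓ _ hℓ j
    obtain ⟨A, hA1, B, hB⟩ := hA ℓ hℓ
    have h := charpoly_sq A
    rw [hA1, hB] at h
    have hT : T.map (Int.castRingHom ℤ_[ℓ]) = expand ℤ_[ℓ] 2 ((n : ℤ_[ℓ]) • B).charpoly := by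
      rw [h]
      simp [T, Polynomial.map_comp]
    have hc : (T.coeff j : ℤ_[ℓ]) = if 2 ∣ j then ((n : ℤ_[ℓ]) • B).charpoly.coeff (j / 2) else 0 := by
      rw [← coeff_expand (by norm_num : (0 : ℕ) < 2), ← hT, coeff_map]; rfl
    refine ⟨fun hj => ?_, fun hj => ?_, fun k hk hkg => ?_⟩
    · rwa [if_neg hj, Int.cast_eq_zero] at hc
    · have h0 : ((n : ℤ_[ℓ]) • B).charpoly.coeff (j / 2) = 0 ∨ ¬ 2 ∣ j := by
        by_cases h2 : 2 ∣ j
        · left
          refine coeff_eq_zero_of_natDegree_lt ?_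
          rw [Matrix.charpoly_natDegree_eq_dim, Fintype.card_fin]
          omega
        · exact Or.inr h2
      rcases h0 with h0 | h0 <;> simpa [h0] using hc
    · subst hk
      rw [if_pos (dvd_mul_right 2 k), Nat.mul_div_cancel_left k (by norm_num),
        charpoly_smul_coeff (Nat.cast_ne_zero.2 hn.ne') B hkg] at hc
      refine ⟨hc ▸ dvd_mul_right _ _, ?_⟩
      rintro rfl
      have := B.charpoly_monic.coeff_natDegree
      rw [Matrix.charpoly_natDegree_eq_dim, Fintype.card_fin] at this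
      simp only [Nat.sub_self, pow_zero, one_mul, this, Int.cast_eq_one] at hc
      exact hc
  obtain ⟨ℓ₀, hℓ₀, hℓ₀n⟩ := Nat.exists_prime_and_dvd hn1
  have := Fact.mk hℓ₀
  have hdiv : ∀ k, k ≤ g → ((n : ℤ) ^ (g - k)) ∣ T.coeff (2 * k) := by
    intro k hk
    rw [← Int.natCast_pow, Int.natCast_dvd, Nat.dvd_iff_prime_pow_dvd_dvd]
    intro q e hq hqe
    rcases Nat.eq_zero_or_pos e with rfl | he
    · simp
    have hqn : q ∣ n := hq.dvd_of_dvd_pow ((dvd_pow_self q he.ne').trans hqe)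
    have := Fact.mk hq
    have h1 := (((hloc q hqn (2 * k)).2.2 k rfl hk).1)
    rw [← Int.natCast_dvd, Int.natCast_pow, ← PadicInt.pow_p_dvd_int_iff]
    refine dvd_trans ?_ h1
    exact_mod_cast Nat.cast_dvd_cast (α := ℤ_[q]) hqe
  choose S hS using hdiv
  set P : ℤ[X] := ∑ k : Fin (g + 1), C (S k.1 (Nat.lt_succ_iff.1 k.2)) * X ^ k.1
  have hPc : ∀ k (hk : k ≤ g), P.coeff k = S k hk := fun k hk => by
    simp only [P, finsetSum_coeff, coeff_C_mul_X_pow]
    rw [sum_eq_single (⟨k, Nat.lt_succ_of_le hk⟩ : Fin (g + 1))]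
    · simp
    · intro b _ hb; rw [if_neg fun h => hb (Fin.ext h.symm)]
    · simp
  have hPm : P.Monic := by
    refine monic_of_natDegree_le_of_coeff_eq_one g ?_ ?_
    · rw [natDegree_le_iff_coeff_eq_zero]
      intro j hj
      simp only [P, finsetSum_coeff, coeff_C_mul_X_pow]
      refine sum_eq_zero fun k _ => if_neg ?_
      have := k.2; omega
    · have h1 := hS g le_rfl
      rw [((hloc ℓ₀ hℓ₀n (2 * g)).2.2 g rfl le_rfl).2 rfl, Nat.sub_self, pow_zero, one_mul] at h1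
      rw [hPc g le_rfl, ← h1]
  have hs0 : s ≠ 0 := fun h => Nat.cast_ne_zero.2 hn.ne' (by simpa [h] using hs.symm : (n : K) = 0)
  set β := ((α - 1) / s) ^ 2 with hβ
  have hnK : (n : K) ≠ 0 := Nat.cast_ne_zero.2 hn.ne'
  have hroot : aeval β P = 0 := by
    have hT0 : aeval (α - 1) T = 0 := by simp [T, aeval_comp, hα]
    have hdeg : T.natDegree < 2 * g + 1 := Nat.lt_succ_iff.2 <| natDegree_le_iff_coeff_eq_zero.2 fun j hj =>
      (hloc ℓ₀ hℓ₀n j).2.1 hj
    rw [aeval_eq_sum_range' hdeg] at hT0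
    have hsplit : ∑ j ∈ range (2 * g + 1), T.coeff j • (α - 1) ^ j =
        ∑ k ∈ range (g + 1), T.coeff (2 * k) • (α - 1) ^ (2 * k) := by
      symm
      rw [← sum_image (f := fun j => T.coeff j • (α - 1) ^ j) fun a _ b _ h => by simpa using h]
      refine sum_subset (fun j hj => ?_) fun j hj hj' => ?_
      · obtain ⟨k, hk, rfl⟩ := mem_image.1 hj
        simp at hk ⊢; omega
      · rw [(hloc ℓ₀ hℓ₀n j).1 ?_, zero_smul]
        rintro ⟨k, rfl⟩
        exact hj' (mem_image.2 ⟨k, by simp at hj ⊢; omega, rfl⟩)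
    have hPdeg : P.natDegree < g + 1 := Nat.lt_succ_iff.2 <| natDegree_le_iff_coeff_eq_zero.2 fun j hj => by
      simp only [P, finsetSum_coeff, coeff_C_mul_X_pow]
      refine sum_eq_zero fun k _ => if_neg ?_
      have := k.2; omega
    rw [aeval_eq_sum_range' hPdeg]
    refine (mul_eq_zero.1 ?_).resolve_left (pow_ne_zero g hnK)
    rw [← hT0, hsplit, mul_sum]
    refine sum_congr rfl fun k hk => ?_
    have hk' : k ≤ g := Nat.lt_succ_iff.1 (mem_range.1 hk)
    have hb : (n : K) * β = (α - 1) ^ 2 := by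
      rw [hβ, div_pow, ← hs, mul_div_cancel₀ _ (pow_ne_zero 2 hs0)]
    rw [hPc k hk', hS k hk', zsmul_eq_mul, zsmul_eq_mul, pow_mul, ← hb, Int.cast_mul, Int.cast_pow, Int.cast_natCast,
      mul_pow, ← Nat.sub_add_cancel hk', pow_add, Nat.add_sub_cancel]
    ring
  exact IsIntegral.of_pow (by norm_num : 0 < 2) ⟨P, hPm, hroot⟩

theorem card_quot_smul (ℓ : ℕ) [Fact ℓ.Prime] (S : Type u) [AddCommGroup S] [Module ℤ_[ℓ] S]
    [Module.Free ℤ_[ℓ] S] [Module.Finite ℤ_[ℓ] S] :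
    (LinearMap.range (LinearMap.lsmul ℤ_[ℓ] S (ℓ : ℤ_[ℓ]))).toAddSubgroup.index =
      ℓ ^ Module.finrank ℤ_[ℓ] S := by
  let b := Module.finBasis ℤ_[ℓ] S
  let φ : S →+ (Fin (Module.finrank ℤ_[ℓ] S) → ZMod ℓ) :=
    AddMonoidHom.mk' (fun x i => PadicInt.toZMod (b.equivFun x i)) (fun x y => funext fun i => by simp)
  have hsurj : Function.Surjective φ := fun y => by
    obtain ⟨x, hx⟩ := b.equivFun.surjective fun i => ((y i).val : ℤ_[ℓ])
    refine ⟨x, funext fun i => ?_⟩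
    show PadicInt.toZMod (b.equivFun x i) = y i
    rw [hx, map_natCast, ZMod.natCast_zmod_val]
  have hker : φ.ker = (LinearMap.range (LinearMap.lsmul ℤ_[ℓ] S (ℓ : ℤ_[ℓ]))).toAddSubgroup := by
    ext x
    rw [AddMonoidHom.mem_ker, Submodule.mem_toAddSubgroup, LinearMap.mem_range]
    constructor
    · intro h
      have hd : ∀ i, (ℓ : ℤ_[ℓ]) ∣ b.equivFun x i := fun i => by
        have h1 : b.equivFun x i ∈ RingHom.ker (PadicInt.toZMod (p := ℓ)) := congrFun h i
        rwa [PadicInt.ker_toZMod, PadicInt.maximalIdeal_eq_span_p, Ideal.mem_span_singleton] at h1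
      choose c hc using hd
      exact ⟨b.equivFun.symm c, b.equivFun.injective (by
        rw [LinearMap.lsmul_apply, map_smul, LinearEquiv.apply_symm_apply]; funext i; rw [hc i]; rfl)⟩
    · rintro ⟨y, rfl⟩
      funext i
      show PadicInt.toZMod (b.equivFun ((ℓ : ℤ_[ℓ]) • y) i) = 0
      simp
  rw [← hker, AddSubgroup.index_ker, AddMonoidHom.range_eq_top.2 hsurj, AddSubgroup.card_top]
  simp

theorem torsion_coinvariants (ℓ : ℕ) [hℓ : Fact ℓ.Prime]
    (M : Type u) [AddCommGroup M] [Module ℤ_[ℓ] M] [Module.Free ℤ_[ℓ] M] [Module.Finite ℤ_[ℓ] M]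
    (A : M ≃ₗ[ℤ_[ℓ]] M) (hA : A ^ ℓ = 1) (f : Module.End ℤ_[ℓ] M) (hf : f = (A : M →ₗ[ℤ_[ℓ]] M) - 1)
    (hcase : (ℓ = 2 ∧ ∃ B : Module.End ℤ_[ℓ] M, f = (2 : ℤ_[ℓ]) • B) ∨
      (ℓ = 2 ∧ ∃ B : Module.End ℤ_[ℓ] M, f ^ 2 = (4 : ℤ_[ℓ]) • B) ∨
      (ℓ = 3 ∧ ∃ B : Module.End ℤ_[ℓ] M, f ^ 2 = (3 : ℤ_[ℓ]) • B))
    (c : ℕ) (hc : c = Module.finrank ℤ_[ℓ] M - Module.finrank ℤ_[ℓ] (LinearMap.ker f)) :
    (∀ x ∈ Submodule.torsion ℤ_[ℓ] (M ⧸ LinearMap.range f), (ℓ : ℤ_[ℓ]) • x = 0) ∧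
      ∃ r : ℕ, r * (ℓ - 1) = c ∧
        Nat.card (Submodule.torsion ℤ_[ℓ] (M ⧸ LinearMap.range f)) = ℓ ^ r := by
  set a : Module.End ℤ_[ℓ] M := (A : M →ₗ[ℤ_[ℓ]] M) with ha
  have hpow : ∀ n : ℕ, ((A ^ n : M ≃ₗ[ℤ_[ℓ]] M) : Module.End ℤ_[ℓ] M) = a ^ n := by
    intro n
    induction n with
    | zero => rfl
    | succ n ih => rw [pow_succ, pow_succ, ← ih]; rfl
  have haℓ : a ^ ℓ = 1 := by rw [← hpow, hA]; rfl
  set Φ : Module.End ℤ_[ℓ] M := ∑ i ∈ range ℓ, a ^ i
  have hfΦ : f * Φ = 0 := by rw [hf, mul_geom_sum, haℓ, sub_self]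
  have hΦf : Φ * f = 0 := by rw [hf, geom_sum_mul, haℓ, sub_self]
  have hℓ0 : (ℓ : ℤ_[ℓ]) ≠ 0 := Nat.cast_ne_zero.2 hℓ.out.ne_zero
  have := Fact.mk hℓ.out
  have haf : a = f + 1 := by rw [hf, sub_add_cancel]
  have cancel : ∀ {k : ℤ_[ℓ]}, k ≠ 0 → ∀ {u v : Module.End ℤ_[ℓ] M}, k • u = k • v → u = v := fun hk u v huv =>
    LinearMap.ext fun x => smul_right_injective M hk (congrArg (fun w : Module.End ℤ_[ℓ] M => w x) huv)
  obtain ⟨P, hP⟩ : ∃ P : Module.End ℤ_[ℓ] M, Φ = (ℓ : ℤ_[ℓ]) • P := by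
    rcases hcase with ⟨rfl, B, hB⟩ | ⟨rfl, B, hB⟩ | ⟨rfl, B, hB⟩
    · refine ⟨B + 1, ?_⟩
      simp only [Φ, sum_range_succ, sum_range_zero, pow_zero, pow_one, zero_add, haf, hB, smul_add, Nat.cast_ofNat]
      rw [two_smul ℤ_[2] (1 : Module.End ℤ_[2] M)]; abel
    · refine ⟨1 - B, ?_⟩
      have hsq : f ^ 2 = -((2 : ℤ_[2]) • f) := by
        rw [haf] at haℓ
        rw [eq_neg_iff_add_eq_zero, two_smul]
        calc f ^ 2 + (f + f) = (f + 1) ^ 2 - 1 := by noncomm_ring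
          _ = 0 := by rw [haℓ, sub_self]
      have hfB : f = -((2 : ℤ_[2]) • B) := by
        refine cancel (two_ne_zero) ?_
        rw [smul_neg, smul_smul, show (2 : ℤ_[2]) * 2 = 4 by norm_num, ← hB, hsq, neg_neg]
      simp only [Φ, sum_range_succ, sum_range_zero, pow_zero, pow_one, zero_add, haf, smul_sub, Nat.cast_ofNat]
      rw [two_smul ℤ_[2] (1 : Module.End ℤ_[2] M), hfB]; abel
    · refine ⟨B + f + 1, ?_⟩
      simp only [Φ, sum_range_succ, sum_range_zero, pow_zero, pow_one, zero_add, haf, smul_add, Nat.cast_ofNat, ← hB]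
      rw [show (3 : ℤ_[3]) = 1 + 1 + 1 by norm_num, add_smul, add_smul, one_smul, add_smul, add_smul, one_smul]
      noncomm_ring
  have hfP : ∀ x, f (P x) = 0 := fun x => by
    have : (ℓ : ℤ_[ℓ]) • f (P x) = 0 := by
      rw [← map_smul, ← LinearMap.smul_apply, ← hP, ← Module.End.mul_apply, hfΦ]; rfl
    exact (smul_eq_zero.1 this).resolve_left hℓ0
  have hPf : ∀ x, P (f x) = 0 := fun x => by
    have : (ℓ : ℤ_[ℓ]) • P (f x) = 0 := by
      rw [← LinearMap.smul_apply, ← hP, ← Module.End.mul_apply, hΦf]; rfl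
    exact (smul_eq_zero.1 this).resolve_left hℓ0
  have hfix : ∀ x, f x = 0 → P x = x := fun x hx => by
    refine smul_right_injective M hℓ0 ?_
    show (ℓ : ℤ_[ℓ]) • P x = (ℓ : ℤ_[ℓ]) • x
    have hax : a x = x := by rw [haf, LinearMap.add_apply, hx, zero_add]; rfl
    have hapow : ∀ i : ℕ, (a ^ i) x = x := fun i => by
      induction i with
      | zero => rfl
      | succ i ih => rw [pow_succ, Module.End.mul_apply, hax, ih]
    rw [← LinearMap.smul_apply, ← hP]
    simp [Φ, LinearMap.sum_apply, hapow, Nat.cast_smul_eq_nsmul]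
  set S := LinearMap.ker P
  have hmul : ∀ x ∈ S, (ℓ : ℤ_[ℓ]) • x ∈ LinearMap.range f := fun x hx => by
    have h0 : Φ x = 0 := by rw [hP, LinearMap.smul_apply, LinearMap.mem_ker.1 hx, smul_zero]
    refine ⟨-∑ i ∈ range ℓ, (∑ j ∈ range i, a ^ j) x, ?_⟩
    rw [map_neg, map_sum]
    have e : ∀ i ∈ range ℓ, f ((∑ j ∈ range i, a ^ j) x) = (a ^ i) x - x := fun i _ => by
      rw [← Module.End.mul_apply, hf, mul_geom_sum]; rfl
    rw [sum_congr rfl e, sum_sub_distrib, sum_const, card_range, ← LinearMap.sum_apply,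
      show (∑ i ∈ range ℓ, a ^ i) x = 0 from h0, zero_sub, neg_neg, Nat.cast_smul_eq_nsmul]
  have htor : ∀ x : M, Submodule.Quotient.mk x ∈ Submodule.torsion ℤ_[ℓ] (M ⧸ LinearMap.range f) ↔ x ∈ S := by
    intro x
    rw [Submodule.mem_torsion_iff]
    constructor
    · rintro ⟨⟨k, hk⟩, hkx⟩
      change k • (Submodule.Quotient.mk x : M ⧸ LinearMap.range f) = 0 at hkx
      rw [← Submodule.Quotient.mk_smul, Submodule.Quotient.mk_eq_zero] at hkx
      obtain ⟨y, hy⟩ := hkx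
      have h1 : P (f y) = 0 := hPf y
      rw [hy, LinearMap.map_smul] at h1
      exact LinearMap.mem_ker.2 ((smul_eq_zero.1 h1).resolve_left (nonZeroDivisors.ne_zero hk))
    · intro hx
      refine ⟨⟨(ℓ : ℤ_[ℓ]), mem_nonZeroDivisors_of_ne_zero hℓ0⟩, ?_⟩
      rw [Submonoid.smul_def]
      rw [← Submodule.Quotient.mk_smul, Submodule.Quotient.mk_eq_zero]
      exact hmul x hx
  refine ⟨fun q hq => ?_, ?_⟩
  · obtain ⟨x, rfl⟩ := Submodule.Quotient.mk_surjective _ q
    rw [← Submodule.Quotient.mk_smul, Submodule.Quotient.mk_eq_zero]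
    exact hmul x ((htor x).1 hq)
  let fS : Module.End ℤ_[ℓ] S := f.restrict fun x _ => LinearMap.mem_ker.2 (hPf x)
  have hrange : (LinearMap.range f) = (LinearMap.range fS).map S.subtype := by
    ext y
    simp only [LinearMap.mem_range, Submodule.mem_map]
    constructor
    · rintro ⟨x, rfl⟩
      refine ⟨fS ⟨x - P x, ?_⟩, ⟨_, rfl⟩, ?_⟩
      · rw [LinearMap.mem_ker, map_sub, hfix (P x) (hfP x), sub_self]
      · show f (x - P x) = f x
        rw [map_sub, hfP, sub_zero]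
    · rintro ⟨_, ⟨z, rfl⟩, rfl⟩
      exact ⟨z.1, rfl⟩
  let j : S →ₗ[ℤ_[ℓ]] M ⧸ LinearMap.range f := (LinearMap.range f).mkQ.comp S.subtype
  have hjr : LinearMap.range j = Submodule.torsion ℤ_[ℓ] (M ⧸ LinearMap.range f) := by
    ext q
    obtain ⟨x, rfl⟩ := Submodule.Quotient.mk_surjective _ q
    rw [htor]
    constructor
    · rintro ⟨y, hy⟩
      change Submodule.Quotient.mk y.1 = Submodule.Quotient.mk x at hy
      obtain ⟨w, hw⟩ := (Submodule.Quotient.eq _).1 hy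
      have : x = y.1 - f w := by rw [hw]; abel
      rw [this]
      exact sub_mem y.2 (LinearMap.mem_ker.2 (hPf w))
    · exact fun hx => ⟨⟨x, hx⟩, rfl⟩
  have hjk : LinearMap.ker j = LinearMap.range fS := by
    ext y
    simp only [LinearMap.mem_ker, j, LinearMap.comp_apply, Submodule.mkQ_apply, Submodule.Quotient.mk_eq_zero,
      Submodule.subtype_apply, hrange]
    exact ⟨fun ⟨z, hz, hzy⟩ => Subtype.ext hzy ▸ hz, fun h => ⟨y, h, rfl⟩⟩
  have hcard : Nat.card (Submodule.torsion ℤ_[ℓ] (M ⧸ LinearMap.range f)) = (LinearMap.range fS).toAddSubgroup.index := by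
    rw [← hjr, ← hjk]
    exact (Nat.card_congr (LinearMap.quotKerEquivRange j).toEquiv).symm
  have hrank : Module.finrank ℤ_[ℓ] S = c := by
    have hcompl : IsCompl (LinearMap.ker f) S := by
      constructor
      · rw [Submodule.disjoint_def]
        intro x h1 h2
        rw [← hfix x (LinearMap.mem_ker.1 h1)]; exact LinearMap.mem_ker.1 h2
      · rw [codisjoint_iff, eq_top_iff]
        intro x _
        exact Submodule.mem_sup.2 ⟨P x, LinearMap.mem_ker.2 (hfP x), x - P x,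
          by rw [LinearMap.mem_ker, map_sub, hfix (P x) (hfP x), sub_self], add_sub_cancel _ _⟩
    have h := (Submodule.prodEquivOfIsCompl _ _ hcompl).finrank_eq
    rw [Module.finrank_prod] at h
    omega
  have hS0 : ∀ x : S, Φ x.1 = 0 := fun x => by rw [hP, LinearMap.smul_apply, LinearMap.mem_ker.1 x.2, smul_zero]
  have hinj : Function.Injective fS := fun x y hxy => by
    have h1 : f (x.1 - y.1) = 0 := by rw [map_sub, sub_eq_zero]; exact congrArg Subtype.val hxy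
    have h2 := hfix _ h1
    rw [map_sub, LinearMap.mem_ker.1 x.2, LinearMap.mem_ker.1 y.2, sub_self] at h2
    exact Subtype.ext (sub_eq_zero.1 h2.symm)
  rw [hcard]
  rcases hcase with ⟨rfl, -⟩ | ⟨rfl, -⟩ | ⟨rfl, -⟩
  all_goals have hsum := hS0
  all_goals simp only [Φ, sum_range_succ, sum_range_zero, pow_zero, pow_one, zero_add, haf, LinearMap.add_apply,
    Module.End.one_apply] at hsum
  iterate 2
    · refine ⟨c, by simp, ?_⟩
      rw [← hrank, ← card_quot_smul 2 S]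
      congr 2
      have hneg : fS = -(LinearMap.lsmul ℤ_[2] S ((2 : ℕ) : ℤ_[2])) := LinearMap.ext fun x => Subtype.ext <| by
        have := hsum x
        show f x.1 = -(((2 : ℕ) : ℤ_[2]) • x.1)
        rw [Nat.cast_ofNat, two_smul, eq_neg_iff_add_eq_zero, ← this]; abel
      rw [hneg, LinearMap.range_neg]
  · have hbij : ∀ y : S, ∃ x : S, (y : M) = (x : M) + f x.1 := fun y => by
      refine ⟨⟨a (a y.1), ?_⟩, ?_⟩
      · simp [haf, S, hPf, LinearMap.mem_ker.1 y.2, map_add]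
      · show y.1 = a (a y.1) + f (a (a y.1))
        rw [show a (a y.1) + f (a (a y.1)) = (a ^ 3) y.1 from by
          rw [haf]; simp [pow_succ]; abel]
        rw [haℓ]; rfl
    have hsq : LinearMap.range (fS.comp fS) = LinearMap.range (LinearMap.lsmul ℤ_[3] S ((3 : ℕ) : ℤ_[3])) := by
      have key : ∀ x : S, f (f x.1) = -((3 : ℤ_[3]) • (x.1 + f x.1)) := fun x => by
        have h := hsum x
        simp only [sq, Module.End.mul_apply, LinearMap.add_apply, Module.End.one_apply, map_add] at h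
        rw [show (3 : ℤ_[3]) = 1 + 1 + 1 by norm_num, add_smul, add_smul, one_smul, eq_neg_iff_add_eq_zero, ← h]
        abel
      ext y
      simp only [LinearMap.mem_range]
      constructor
      · rintro ⟨x, rfl⟩
        refine ⟨-(x + fS x), Subtype.ext ?_⟩
        show ((3 : ℕ) : ℤ_[3]) • -(x.1 + f x.1) = f (f x.1)
        rw [key, smul_neg, Nat.cast_ofNat]
      · rintro ⟨z, rfl⟩
        obtain ⟨x, hx⟩ := hbij (-z)
        refine ⟨x, Subtype.ext ?_⟩
        show f (f x.1) = ((3 : ℕ) : ℤ_[3]) • z.1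
        rw [key, ← hx, Submodule.coe_neg, smul_neg, neg_neg, Nat.cast_ofNat]
    have hidx := card_quot_smul 3 S
    rw [hrank, ← hsq, LinearMap.range_comp, Submodule.map_toAddSubgroup,
      AddSubgroup.index_map_of_injective (f := (↑fS : S →+ S)) _ hinj] at hidx
    change (LinearMap.range fS).toAddSubgroup.index * (LinearMap.range fS).toAddSubgroup.index = 3 ^ c at hidx
    set N := (LinearMap.range fS).toAddSubgroup.index
    obtain ⟨r, -, hr⟩ := (Nat.dvd_prime_pow Nat.prime_three).1 ⟨N, hidx.symm⟩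
    refine ⟨r, ?_, hr⟩
    rw [hr, ← pow_add] at hidx
    have := Nat.pow_right_injective (le_refl 2 |>.trans (by norm_num)) hidx
    omega

end Groth.Agent.Misc36
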