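import Mathlib

/-!
Quotients of linear forms by seminorms and by square roots of quadratic forms.
-/

universe u

namespace Groth.Agent.Misc36

open Finset Matrix

variable {E : Type u} [AddCommGroup E] [Module ℝ E]

theorem min_le_segment (p : Seminorm ℝ E) (ℓ : E →ₗ[ℝ] ℝ) (y₀ y₁ : E) (h₀ : 0 < p y₀) (h₁ : 0 < p y₁)
    (hℓ₀ : 0 ≤ ℓ y₀) (hℓ₁ : 0 ≤ ℓ y₁) (t : ℝ) (ht₀ : 0 < t) (ht₁ : t < 1)
    (hy : 0 < p (t • y₀ + (1 - t) • y₁)) :
    min (ℓ y₀ / p y₀) (ℓ y₁ / p y₁) ≤ ℓ (t • y₀ + (1 - t) • y₁) / p (t • y₀ + (1 - t) • y₁) ∧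
      (ℓ (t • y₀ + (1 - t) • y₁) / p (t • y₀ + (1 - t) • y₁) = min (ℓ y₀ / p y₀) (ℓ y₁ / p y₁) →
        ℓ y₀ / p y₀ = ℓ y₁ / p y₁) := by
  set m := min (ℓ y₀ / p y₀) (ℓ y₁ / p y₁)
  have hm : 0 ≤ m := le_min (by positivity) (by positivity)
  have hp : p (t • y₀ + (1 - t) • y₁) ≤ t * p y₀ + (1 - t) * p y₁ := by
    refine (map_add_le_add p _ _).trans_eq ?_
    rw [map_smul_eq_mul, map_smul_eq_mul, Real.norm_of_nonneg ht₀.le, Real.norm_of_nonneg (by linarith : (0:ℝ) ≤ 1 - t)]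
  have a0 : m * p y₀ ≤ ℓ y₀ := (le_div_iff₀ h₀).1 (min_le_left _ _)
  have a1 : m * p y₁ ≤ ℓ y₁ := (le_div_iff₀ h₁).1 (min_le_right _ _)
  have hl : ℓ (t • y₀ + (1 - t) • y₁) = t * ℓ y₀ + (1 - t) * ℓ y₁ := by simp
  have hb : m * p (t • y₀ + (1 - t) • y₁) ≤ t * (m * p y₀) + (1 - t) * (m * p y₁) := by
    have := mul_le_mul_of_nonneg_left hp hm
    linarith
  refine ⟨(le_div_iff₀ hy).2 ?_, fun heq => ?_⟩
  · rw [hl]; nlinarith
  · rw [div_eq_iff hy.ne', hl] at heq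
    have e0 : ℓ y₀ = m * p y₀ := by nlinarith
    have e1 : ℓ y₁ = m * p y₁ := by nlinarith
    rw [e0, e1, mul_div_assoc, mul_div_assoc, div_self h₀.ne', div_self h₁.ne']

theorem min_lt_segment (p : Seminorm ℝ E)
    (hp : ∀ a b : E, p a ≠ 0 → p b ≠ 0 → (¬ ∃ c : ℝ, 0 < c ∧ b = c • a) → p (a + b) < p a + p b)
    (ℓ : E →ₗ[ℝ] ℝ) (y₀ y₁ : E) (h₀ : 0 < p y₀) (h₁ : 0 < p y₁)
    (hℓ₀ : 0 < ℓ y₀) (hℓ₁ : 0 < ℓ y₁) (hne : ¬ ∃ c : ℝ, 0 < c ∧ y₁ = c • y₀)
    (t : ℝ) (ht₀ : 0 < t) (ht₁ : t < 1) (hy : 0 < p (t • y₀ + (1 - t) • y₁)) :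
    min (ℓ y₀ / p y₀) (ℓ y₁ / p y₁) < ℓ (t • y₀ + (1 - t) • y₁) / p (t • y₀ + (1 - t) • y₁) := by
  set m := min (ℓ y₀ / p y₀) (ℓ y₁ / p y₁)
  have hm : 0 < m := lt_min (by positivity) (by positivity)
  have hpa : p (t • y₀) = t * p y₀ := by rw [map_smul_eq_mul, Real.norm_of_nonneg ht₀.le]
  have hpb : p ((1 - t) • y₁) = (1 - t) * p y₁ := by
    rw [map_smul_eq_mul, Real.norm_of_nonneg (by linarith : (0:ℝ) ≤ 1 - t)]
  have hlt : p (t • y₀ + (1 - t) • y₁) < t * p y₀ + (1 - t) * p y₁ := by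
    rw [← hpa, ← hpb]
    refine hp _ _ ?_ ?_ ?_
    · rw [hpa]; exact (mul_pos ht₀ h₀).ne'
    · rw [hpb]; exact (mul_pos (by linarith) h₁).ne'
    · rintro ⟨c, hc, he⟩
      have h1t : (1 - t) ≠ 0 := by linarith
      refine hne ⟨c * t / (1 - t), by have : 0 < 1 - t := by linarith
                                      positivity, ?_⟩
      rw [smul_smul] at he
      rw [div_eq_inv_mul, mul_smul, ← he, inv_smul_smul₀ h1t]
  have a0 : m * p y₀ ≤ ℓ y₀ := (le_div_iff₀ h₀).1 (min_le_left _ _)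
  have a1 : m * p y₁ ≤ ℓ y₁ := (le_div_iff₀ h₁).1 (min_le_right _ _)
  have hl : ℓ (t • y₀ + (1 - t) • y₁) = t * ℓ y₀ + (1 - t) * ℓ y₁ := by simp
  rw [lt_div_iff₀ hy, hl]
  have := mul_lt_mul_of_pos_left hlt hm
  nlinarith

theorem quad_linear_coeff_zero {a b : ℝ} (h : ∀ᶠ s in nhds (0 : ℝ), 0 ≤ b * s + a * s ^ 2) : b = 0 := by
  obtain ⟨ε, hε, H⟩ := Metric.eventually_nhds_iff.1 h
  by_contra hb
  set s := -b / |b| * min (ε / 2) (|b| / (2 * (|a| + 1))) with hs
  have hab : 0 < |b| := abs_pos.2 hb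
  set r := min (ε / 2) (|b| / (2 * (|a| + 1))) with hr
  have hr0 : 0 < r := lt_min (by linarith) (by positivity)
  have hsq : s ^ 2 = r ^ 2 := by
    rw [hs, mul_pow, div_pow, neg_sq, sq_abs, div_self (pow_ne_zero 2 hb), one_mul]
  have hbs : b * s = -(|b| * r) := by
    rw [hs]; field_simp; rw [sq_abs]
  have hdist : dist s 0 < ε := by
    rw [dist_zero_right, Real.norm_eq_abs, hs, abs_mul, abs_div, abs_neg, abs_abs, div_self hab.ne', one_mul,
      abs_of_pos hr0]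
    exact lt_of_le_of_lt (min_le_left _ _) (by linarith)
  have := H hdist
  rw [hbs, hsq] at this
  have h2 : r * (2 * (|a| + 1)) ≤ |b| := (le_div_iff₀ (by positivity)).1 (min_le_right _ _)
  nlinarith [le_abs_self a, mul_pos hr0 hr0, abs_nonneg a]

theorem exists_rat_max (n : ℕ) (ℓ : Fin n → ℚ) (B : Matrix (Fin n) (Fin n) ℚ)
    (hnn : ∀ y : Fin n → ℝ, 0 ≤ y ⬝ᵥ (B.map (fun r : ℚ => (r : ℝ))) *ᵥ y)
    (hpos : ∀ y : Fin n → ℝ, (∀ i, 0 ≤ y i) → y ≠ 0 → 0 < y ⬝ᵥ (B.map (fun r : ℚ => (r : ℝ))) *ᵥ y)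
    (hℓ : ∃ y : Fin n → ℝ, (∀ i, 0 ≤ y i) ∧ 0 < (fun i => (ℓ i : ℝ)) ⬝ᵥ y) :
    ∃ x : Fin n → ℚ, (∀ i, 0 ≤ x i) ∧ x ≠ 0 ∧
      ∀ y : Fin n → ℝ, (∀ i, 0 ≤ y i) → y ≠ 0 →
        (fun i => (ℓ i : ℝ)) ⬝ᵥ y / Real.sqrt (y ⬝ᵥ (B.map (fun r : ℚ => (r : ℝ))) *ᵥ y) ≤
          (fun i => (ℓ i : ℝ)) ⬝ᵥ (fun i => (x i : ℝ)) /
            Real.sqrt ((fun i => (x i : ℝ)) ⬝ᵥ (B.map (fun r : ℚ => (r : ℝ))) *ᵥ (fun i => (x i : ℝ))) := by
  classical
  set L : Fin n → ℝ := fun i => (ℓ i : ℝ)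
  set Q : Matrix (Fin n) (Fin n) ℝ := B.map (fun r : ℚ => (r : ℝ))
  set S : Matrix (Fin n) (Fin n) ℝ := Q + Qᵀ
  set q : (Fin n → ℝ) → ℝ := fun y => y ⬝ᵥ Q *ᵥ y
  have hexp : ∀ (y v : Fin n → ℝ) (s : ℝ), q (y + s • v) = q y + s * (v ⬝ᵥ S *ᵥ y) + s ^ 2 * q v := fun y v s => by
    simp only [q, S, Matrix.add_mulVec, dotProduct_add, Matrix.mulVec_add, Matrix.mulVec_smul, add_dotProduct,
      smul_dotProduct, dotProduct_smul, smul_eq_mul]
    rw [Matrix.mulVec_transpose, dotProduct_comm v (y ᵥ* Q), ← Matrix.dotProduct_mulVec]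
    ring
  have hqs : ∀ (y : Fin n → ℝ) (s : ℝ), q (s • y) = s ^ 2 * q y := fun y s => by
    simp only [q, Matrix.mulVec_smul, smul_dotProduct, dotProduct_smul, smul_eq_mul]; ring
  -- a maximiser on the simplex
  obtain ⟨y₀, hy₀, hy₀ℓ⟩ := hℓ
  have hne0 : ∀ z ∈ stdSimplex ℝ (Fin n), z ≠ 0 := fun z hz h => by
    have := hz.2; simp [h] at this
  have hqc : Continuous q := by simp only [q, dotProduct, Matrix.mulVec]; fun_prop
  have hLc : Continuous fun z => L ⬝ᵥ z := by simp only [dotProduct]; fun_prop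
  have hsum0 : 0 < ∑ i, y₀ i := by
    refine lt_of_le_of_ne (sum_nonneg fun i _ => hy₀ i) fun h => ?_
    have : y₀ = 0 := funext fun i => (sum_eq_zero_iff_of_nonneg fun i _ => hy₀ i).1 h.symm i (mem_univ i)
    simp [this] at hy₀ℓ
  have hmem : ∀ y : Fin n → ℝ, (∀ i, 0 ≤ y i) → 0 < ∑ i, y i → (∑ i, y i)⁻¹ • y ∈ stdSimplex ℝ (Fin n) := fun y hy h =>
    ⟨fun i => mul_nonneg (inv_nonneg.2 h.le) (hy i), by simp [← Finset.mul_sum, h.ne']⟩
  obtain ⟨z, hz, hzmax⟩ := (isCompact_stdSimplex ℝ (Fin n)).exists_isMaxOn ⟨_, hmem y₀ hy₀ hsum0⟩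
    (f := fun z => L ⬝ᵥ z / Real.sqrt (q z))
    (hLc.continuousOn.div (Real.continuous_sqrt.comp hqc).continuousOn
      fun z hz => (Real.sqrt_pos.2 (hpos z hz.1 (hne0 z hz))).ne')
  have hF : ∀ (y : Fin n → ℝ) (s : ℝ), 0 < s → L ⬝ᵥ (s • y) / Real.sqrt (q (s • y)) = L ⬝ᵥ y / Real.sqrt (q y) := by
    intro y s hs
    rw [hqs, Real.sqrt_mul (sq_nonneg s), Real.sqrt_sq hs.le, dotProduct_smul, smul_eq_mul, mul_div_mul_left _ _ hs.ne']
  set F : (Fin n → ℝ) → ℝ := fun y => L ⬝ᵥ y / Real.sqrt (q y)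
  have hmax : ∀ y, (∀ i, 0 ≤ y i) → y ≠ 0 → F y ≤ F z := by
    intro y hy hy0
    have hs : 0 < ∑ i, y i := by
      refine lt_of_le_of_ne (sum_nonneg fun i _ => hy i) fun h => hy0 ?_
      exact funext fun i => (sum_eq_zero_iff_of_nonneg fun i _ => hy i).1 h.symm i (mem_univ i)
    rw [← show F ((∑ i, y i)⁻¹ • y) = F y from hF y _ (inv_pos.2 hs)]
    exact hzmax (hmem y hy hs)
  have hFz : 0 < F z := lt_of_lt_of_le
    (div_pos hy₀ℓ (Real.sqrt_pos.2 (hpos y₀ hy₀ fun h => by simp [h] at hy₀ℓ)))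
    (hmax y₀ hy₀ fun h => by simp [h] at hy₀ℓ)
  have hLz : 0 < L ⬝ᵥ z := by
    by_contra h
    exact absurd hFz (not_lt.2 (div_nonpos_of_nonpos_of_nonneg (not_lt.1 h) (Real.sqrt_nonneg _)))
  -- choose one with value one and minimal support
  let P : ℕ → Prop := fun k => ∃ y : Fin n → ℝ, (∀ i, 0 ≤ y i) ∧ L ⬝ᵥ y = 1 ∧ F y = F z ∧
    (univ.filter fun i => y i ≠ 0).card = k
  have hP : ∃ k, P k := ⟨_, (L ⬝ᵥ z)⁻¹ • z, fun i => mul_nonneg (inv_nonneg.2 hLz.le) (hz.1 i),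
    by simp [dotProduct_smul, hLz.ne'], hF z _ (inv_pos.2 hLz), rfl⟩
  obtain ⟨y, hy, hLy, hFy, hcard⟩ := Nat.find_spec hP
  have hyne : y ≠ 0 := fun h => by simp [h] at hLy
  set c := q y
  have hc : 0 < c := hpos y hy hyne
  have hge : ∀ v, (∀ i, 0 ≤ v i) → 0 < L ⬝ᵥ v → c * (L ⬝ᵥ v) ^ 2 ≤ q v := fun v hv hLv => by
    have hvne : v ≠ 0 := fun h => by simp [h] at hLv
    have h := hmax v hv hvne
    rw [← hFy] at h
    simp only [F, hLy] at h
    rw [div_le_div_iff₀ (Real.sqrt_pos.2 (hpos v hv hvne)) (Real.sqrt_pos.2 hc), one_mul] at h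
    have := pow_le_pow_left₀ (by positivity) h 2
    rw [mul_pow, Real.sq_sqrt hc.le, Real.sq_sqrt (hpos v hv hvne).le] at this
    linarith
  have hstat : ∀ j, y j ≠ 0 → (S *ᵥ y) j = 2 * c * L j := by
    intro j hj
    have hev : ∀ᶠ s in nhds (0 : ℝ), 0 ≤ ((S *ᵥ y) j - 2 * c * L j) * s + (q (Pi.single j 1) - c * L j ^ 2) * s ^ 2 := by
      have h1 : ∀ᶠ s in nhds (0 : ℝ), 0 < y j + s := by
        refine (continuous_const.add continuous_id).continuousAt.eventually (lt_mem_nhds ?_)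
        simpa using lt_of_le_of_ne (hy j) (Ne.symm hj)
      have h2 : ∀ᶠ s in nhds (0 : ℝ), 0 < 1 + s * L j :=
        (continuous_const.add (continuous_id.mul continuous_const)).continuousAt.eventually (lt_mem_nhds (by simp))
      filter_upwards [h1, h2] with s s1 s2
      have h := hge (y + s • Pi.single j 1) (fun i => by
        by_cases hij : i = j
        · subst hij; simp; linarith
        · simp [hij, hy i]) (by simpa [dotProduct_add, dotProduct_smul, hLy] using s2)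
      rw [hexp, dotProduct_add, dotProduct_smul, hLy, smul_eq_mul, dotProduct_single, mul_one, single_dotProduct,
        one_mul] at h
      nlinarith
    linarith [quad_linear_coeff_zero hev]
  -- the linear system
  let Sq : Matrix (Fin n) (Fin n) ℚ := B + Bᵀ
  let A : Matrix (Fin n ⊕ Unit) (Fin n ⊕ Unit) ℚ := Matrix.of fun r k =>
    match r, k with
    | Sum.inl i, Sum.inl j => if y i = 0 then (if i = j then 1 else 0) else Sq i j
    | Sum.inl i, Sum.inr _ => if y i = 0 then 0 else -ℓ i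
    | Sum.inr _, Sum.inl j => ℓ j
    | Sum.inr _, Sum.inr _ => 0
  let AR : Matrix (Fin n ⊕ Unit) (Fin n ⊕ Unit) ℝ := A.map (fun r : ℚ => (r : ℝ))
  have hAR : ∀ (v : Fin n → ℝ) (μ : ℝ), AR *ᵥ Sum.elim v (fun _ => μ) =
      Sum.elim (fun i => if y i = 0 then v i else (S *ᵥ v) i - μ * L i) (fun _ => L ⬝ᵥ v) := by
    intro v μ
    funext r
    rcases r with i | u
    · simp only [Sum.elim_inl, Matrix.mulVec, dotProduct, Fintype.sum_sum_type, AR, A, Matrix.map_apply,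
        Matrix.of_apply, Sum.elim_inr, Finset.univ_unique, Finset.sum_singleton]
      by_cases h : y i = 0
      · simp [h, apply_ite (Rat.cast : ℚ → ℝ)]
      · simp [h, Sq, S, Q, L]; ring
    · simp [Matrix.mulVec, dotProduct, Fintype.sum_sum_type, AR, A, L]
  have hdet : A.det ≠ 0 := by
    intro h0
    have h1 : AR.det = 0 := by
      rw [show AR = (Rat.castHom ℝ).mapMatrix A from rfl, ← RingHom.map_det, h0, map_zero]
    obtain ⟨w, hw, hw0⟩ := Matrix.exists_mulVec_eq_zero_iff.2 h1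
    set v : Fin n → ℝ := fun i => w (Sum.inl i)
    set μ : ℝ := w (Sum.inr ())
    have hwe : w = Sum.elim v (fun _ => μ) := by funext r; rcases r with i | u <;> rfl
    rw [hwe, hAR] at hw0
    have hLv : L ⬝ᵥ v = 0 := congrFun hw0 (Sum.inr ())
    have hoff : ∀ i, y i = 0 → v i = 0 := fun i hi => by have := congrFun hw0 (Sum.inl i); simpa [hi] using this
    have hon : ∀ i, y i ≠ 0 → (S *ᵥ v) i = μ * L i := fun i hi => by
      have := congrFun hw0 (Sum.inl i); simp [hi] at this; linarith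
    have hv0 : v = 0 := by
      by_contra hv0
      have h2 : v ⬝ᵥ S *ᵥ y = 0 := by
        have : v ⬝ᵥ S *ᵥ y = 2 * c * (L ⬝ᵥ v) := by
          simp only [dotProduct, Finset.mul_sum]
          refine sum_congr rfl fun i _ => ?_
          by_cases hi : y i = 0
          · simp [hoff i hi]
          · rw [hstat i hi]; ring
        rw [this, hLv, mul_zero]
      have h3 : q v = 0 := by
        have e1 : v ⬝ᵥ S *ᵥ v = 2 * q v := by
          simp only [q, S, Matrix.add_mulVec, dotProduct_add, Matrix.mulVec_transpose]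
          rw [dotProduct_comm v (v ᵥ* Q), ← Matrix.dotProduct_mulVec]; ring
        have e2 : v ⬝ᵥ S *ᵥ v = μ * (L ⬝ᵥ v) := by
          simp only [dotProduct, Finset.mul_sum]
          refine sum_congr rfl fun i _ => ?_
          by_cases hi : y i = 0
          · simp [hoff i hi]
          · rw [hon i hi]; ring
        rw [hLv, mul_zero] at e2
        linarith
      -- move along `v` to the boundary
      have key : ∀ v : Fin n → ℝ, L ⬝ᵥ v = 0 → (∀ i, y i = 0 → v i = 0) → v ⬝ᵥ S *ᵥ y = 0 → q v = 0 →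
          (∃ i, v i < 0) → False := by
        intro v hLv hoff h2 h3 ⟨i₀, hi₀⟩
        obtain ⟨k, hk, hkmin⟩ := exists_min_image (univ.filter fun i => v i < 0) (fun i => y i / -v i) ⟨i₀, by simp [hi₀]⟩
        simp only [mem_filter, mem_univ, true_and] at hk hkmin
        set s := y k / -v k
        have hs : 0 ≤ s := div_nonneg (hy k) (by linarith)
        have hvk : (y + s • v) k = 0 := by
          simp only [Pi.add_apply, Pi.smul_apply, smul_eq_mul, s]
          field_simp [hk.ne]; ring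
        have hnn' : ∀ i, 0 ≤ (y + s • v) i := fun i => by
          simp only [Pi.add_apply, Pi.smul_apply, smul_eq_mul]
          by_cases hi : v i < 0
          · have := (le_div_iff₀ (by linarith : (0 : ℝ) < -v i)).1 (hkmin i hi)
            linarith
          · have := hy i; nlinarith
        have hL1 : L ⬝ᵥ (y + s • v) = 1 := by simp [dotProduct_add, dotProduct_smul, hLy, hLv]
        have hF1 : F (y + s • v) = F z := by
          rw [← hFy]; simp only [F, hL1, hLy, hexp, h2, h3, mul_zero, add_zero]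
        have hlt : (univ.filter fun i => (y + s • v) i ≠ 0).card < (univ.filter fun i => y i ≠ 0).card := by
          refine card_lt_card ((ssubset_iff_of_subset fun i hi => ?_).2 ⟨k, ?_, ?_⟩)
          · simp only [mem_filter, mem_univ, true_and, Pi.add_apply, Pi.smul_apply, smul_eq_mul] at hi ⊢
            intro h; exact hi (by simp [h, hoff i h])
          · simp only [mem_filter, mem_univ, true_and]
            exact fun h => hk.ne (hoff k h)
          · simp [-Pi.add_apply, hvk]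
        exact Nat.find_min hP (hcard ▸ hlt) ⟨_, hnn', hL1, hF1, rfl⟩
      obtain ⟨i, hi⟩ := Function.ne_iff.1 hv0
      rcases lt_or_gt_of_ne hi with h | h
      · exact key v hLv hoff h2 h3 ⟨i, h⟩
      · refine key (-v) (by simp [hLv]) (fun i hi => by simp [hoff i hi]) (by simp [h2]) ?_ ⟨i, by simpa using h⟩
        simp [q, Matrix.mulVec_neg] at h3 ⊢; linarith
    apply hw
    rw [hwe, hv0]
    obtain ⟨i, hi⟩ : ∃ i, y i ≠ 0 ∧ L i ≠ 0 := by
      by_contra hcon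
      push Not at hcon
      have : L ⬝ᵥ y = 0 := sum_eq_zero fun i _ => by
        by_cases h : y i = 0
        · simp [h]
        · simp [hcon i h]
      linarith
    have := hon i hi.1
    rw [hv0, Matrix.mulVec_zero] at this
    have hμ : μ = 0 := by simpa [hi.2] using this.symm
    funext r; rcases r with j | u <;> simp [hμ]
  let b : Fin n ⊕ Unit → ℚ := Sum.elim (fun _ => 0) (fun _ => 1)
  let sol := A⁻¹ *ᵥ b
  have hy' : ∀ i, y i = ((sol (Sum.inl i) : ℚ) : ℝ) := by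
    have h1 : AR *ᵥ Sum.elim y (fun _ => 2 * c) = fun r => ((b r : ℚ) : ℝ) := by
      rw [hAR]
      funext r
      rcases r with i | u
      · simp only [Sum.elim_inl, b]
        split_ifs with h
        · simp [h]
        · simp [hstat i h]
      · simp [b, hLy]
    have h2 : AR *ᵥ (fun r => ((sol r : ℚ) : ℝ)) = fun r => ((b r : ℚ) : ℝ) := by
      funext r
      have h := congrFun (show A *ᵥ sol = b by
        rw [Matrix.mulVec_mulVec, Matrix.mul_nonsing_inv _ (isUnit_iff_ne_zero.2 hdet), Matrix.one_mulVec]) r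
      rw [← h]
      simp [AR, Matrix.mulVec, dotProduct]
    have hu : AR.det ≠ 0 := by
      rw [show AR = (Rat.castHom ℝ).mapMatrix A from rfl, ← RingHom.map_det]
      simpa using hdet
    have h3 := Matrix.eq_zero_of_mulVec_eq_zero hu (v := Sum.elim y (fun _ => 2 * c) - fun r => ((sol r : ℚ) : ℝ))
      (by rw [Matrix.mulVec_sub, h1, h2, sub_self])
    intro i
    exact sub_eq_zero.1 (congrFun h3 (Sum.inl i))
  refine ⟨fun i => sol (Sum.inl i), fun i => ?_, fun h => hyne (funext fun i => ?_), fun v hv hv0 => ?_⟩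
  · exact_mod_cast hy' i ▸ hy i
  · have := congrFun h i
    simp only [Pi.zero_apply] at this
    simp [hy' i, this]
  · have hfun : y = fun i => ((sol (Sum.inl i) : ℚ) : ℝ) := funext hy'
    have := hmax v hv hv0
    rw [← hFy, hfun] at this
    exact this

end Groth.Agent.Misc36
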