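import Mathlib

/-!
A subgroup generated by two unipotently acting subgroups, one normalising the other.
-/

universe u v

namespace Groth.Agent.Misc36

open Pointwise

variable {K : Type u} {V : Type v} [Field K] [AddCommGroup V] [Module K V]

/-- A linear automorphism as an endomorphism. -/
abbrev endo (g : V ≃ₗ[K] V) : Module.End K V := (g : Module.End K V)

/-- Products of length `n` of `h - 1`. -/
def prods (H : Subgroup (V ≃ₗ[K] V)) (n : ℕ) : Set (Module.End K V) :=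
  {X | ∃ l : List (V ≃ₗ[K] V), l.length = n ∧ (∀ h ∈ l, h ∈ H) ∧ X = (l.map fun h => endo h - 1).prod}

theorem unipotent_sup (H₁ H₂ : Subgroup (V ≃ₗ[K] V)) (hnorm : ∀ g ∈ H₂, ∀ h ∈ H₁, g * h * g⁻¹ ∈ H₁)
    (n₁ n₂ : ℕ) (h₁ : ∀ X ∈ prods H₁ n₁, X = 0) (h₂ : ∀ X ∈ prods H₂ n₂, X = 0) :
    ∀ X ∈ prods (H₁ ⊔ H₂) (n₁ * n₂), X = 0 := by
  classical
  have em : ∀ g g' : V ≃ₗ[K] V, endo (g * g') = endo g * endo g' := fun g g' => rfl
  have e1 : endo (1 : V ≃ₗ[K] V) = 1 := rfl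
  have hG : ∀ g ∈ H₁ ⊔ H₂, ∀ h ∈ H₁, g * h * g⁻¹ ∈ H₁ := by
    have hle : H₁ ⊔ H₂ ≤ Subgroup.normalizer (H₁ : Set (V ≃ₗ[K] V)) := by
      refine sup_le Subgroup.le_normalizer fun g hg => ?_
      rw [Subgroup.mem_normalizer_iff]
      exact fun h => ⟨hnorm g hg h, fun hh => by
        have := hnorm g⁻¹ (inv_mem hg) _ hh
        simpa [mul_assoc] using this⟩
    exact fun g hg h hh => ((Subgroup.mem_normalizer_iff.1 (hle hg)) h).1 hh
  have hdec : ∀ g ∈ H₁ ⊔ H₂, ∃ a ∈ H₂, ∃ b ∈ H₁, g = a * b := by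
    intro g hg
    rw [sup_comm, ← SetLike.mem_coe, Subgroup.coe_mul_of_left_le_normalizer_right _ _ (fun a ha => ?_)] at hg
    · obtain ⟨a, ha, b, hb, rfl⟩ := hg
      exact ⟨a, ha, b, hb, rfl⟩
    · rw [Subgroup.mem_normalizer_iff]
      exact fun h => ⟨hnorm a ha h, fun hh => by
        have := hnorm a⁻¹ (inv_mem ha) _ hh
        simpa [mul_assoc] using this⟩
  let L : ℕ → Submodule K (Module.End K V) := fun j =>
    Submodule.span K {X | ∃ g ∈ H₁ ⊔ H₂, ∃ P ∈ prods H₁ j, X = endo g * P}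
  have hpr0 : ∀ g ∈ H₁ ⊔ H₂, endo g ∈ L 0 := fun g hg =>
    Submodule.subset_span ⟨g, hg, 1, ⟨[], rfl, by simp, rfl⟩, (mul_one _).symm⟩
  have hmul : ∀ i j, L i * L j ≤ L (i + j) := by
    intro i j
    rw [Submodule.span_mul_span]
    refine Submodule.span_mono ?_
    rintro _ ⟨_, ⟨g, hg, _, ⟨l, hl, hlH, rfl⟩, rfl⟩, _, ⟨g', hg', _, ⟨l', hl', hlH', rfl⟩, rfl⟩, rfl⟩
    refine ⟨g * g', mul_mem hg hg', _, ⟨l.map (fun h => g'⁻¹ * h * g') ++ l', by simp [hl, hl'], fun h hh => ?_, rfl⟩, ?_⟩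
    · rcases List.mem_append.1 hh with hh | hh
      · obtain ⟨a, ha, rfl⟩ := List.mem_map.1 hh
        simpa using hG g'⁻¹ (inv_mem hg') a (hlH a ha)
      · exact hlH' h hh
    · have : (l.map fun h => endo h - 1).prod * endo g' =
          endo g' * ((l.map fun h => g'⁻¹ * h * g').map fun h => endo h - 1).prod := by
        clear hl hlH
        induction l with
        | nil => simp
        | cons a t ih =>
          simp only [List.map_cons, List.prod_cons]
          rw [mul_assoc, ih, ← mul_assoc, ← mul_assoc]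
          congr 1
          rw [sub_mul, one_mul, mul_sub, mul_one, ← em, ← em]
          congr 1
          simp [mul_assoc]
      simp only [List.map_append, List.prod_append, em]
      rw [mul_assoc (endo g), ← mul_assoc _ (endo g'), this]
      simp only [mul_assoc]
  have hmem : ∀ g ∈ H₁ ⊔ H₂, ∃ a ∈ H₂, (endo g - 1) - (endo a - 1) ∈ L 1 := by
    intro g hg
    obtain ⟨a, ha, b, hb, rfl⟩ := hdec g hg
    refine ⟨a, ha, Submodule.subset_span ⟨a, (le_sup_right : H₂ ≤ _) ha, endo b - 1, ⟨[b], rfl, by simpa, by simp⟩, ?_⟩⟩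
    rw [mul_sub, mul_one, em]; abel
  have hsub : ∀ g ∈ H₁ ⊔ H₂, endo g - 1 ∈ L 0 := fun g hg => sub_mem (hpr0 g hg) (e1 ▸ hpr0 1 (one_mem _))
  have hblock : ∀ l : List (V ≃ₗ[K] V), (∀ g ∈ l, g ∈ H₁ ⊔ H₂) →
      ∃ l' : List (V ≃ₗ[K] V), l'.length = l.length ∧ (∀ g ∈ l', g ∈ H₂) ∧
        (l.map fun g => endo g - 1).prod - (l'.map fun g => endo g - 1).prod ∈ L 1 ∧
        (l.map fun g => endo g - 1).prod ∈ L 0 ∧ (l'.map fun g => endo g - 1).prod ∈ L 0 := by
    intro l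
    induction l with
    | nil => intro _; exact ⟨[], rfl, by simp, by simp, by simpa using e1 ▸ hpr0 1 (one_mem _), by simpa using e1 ▸ hpr0 1 (one_mem _)⟩
    | cons g t ih =>
      intro h
      obtain ⟨t', ht1, ht2, ht3, ht4, ht5⟩ := ih fun x hx => h x (List.mem_cons_of_mem _ hx)
      have hg := h g List.mem_cons_self
      obtain ⟨a, ha, hga⟩ := hmem g hg
      have hga' : a ∈ H₁ ⊔ H₂ := (le_sup_right : H₂ ≤ _) ha
      refine ⟨a :: t', by simp [ht1], fun x hx => ?_, ?_, ?_, ?_⟩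
      · rcases List.mem_cons.1 hx with rfl | hx
        exacts [ha, ht2 x hx]
      · simp only [List.map_cons, List.prod_cons]
        have := add_mem (hmul 1 0 (Submodule.mul_mem_mul hga ht4)) (hmul 0 1 (Submodule.mul_mem_mul (hsub a hga') ht3))
        convert this using 1
        noncomm_ring
      · simpa using hmul 0 0 (Submodule.mul_mem_mul (hsub g hg) ht4)
      · simpa using hmul 0 0 (Submodule.mul_mem_mul (hsub a hga') ht5)
  have hone : ∀ l : List (V ≃ₗ[K] V), l.length = n₂ → (∀ g ∈ l, g ∈ H₁ ⊔ H₂) →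
      (l.map fun g => endo g - 1).prod ∈ L 1 := by
    intro l hl hlG
    obtain ⟨l', h1, h2', h3, -, -⟩ := hblock l hlG
    rwa [h₂ _ ⟨l', h1.trans hl, h2', rfl⟩, sub_zero] at h3
  have hall : ∀ j, ∀ l : List (V ≃ₗ[K] V), l.length = j * n₂ → (∀ g ∈ l, g ∈ H₁ ⊔ H₂) →
      (l.map fun g => endo g - 1).prod ∈ L j := by
    intro j
    induction j with
    | zero =>
      intro l hl _
      obtain rfl : l = [] := List.length_eq_zero_iff.1 (by simpa using hl)
      simpa using e1 ▸ hpr0 1 (one_mem _)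
    | succ j ih =>
      intro l hl hlG
      rw [← List.take_append_drop n₂ l, List.map_append, List.prod_append, Nat.add_comm]
      refine hmul 1 j (Submodule.mul_mem_mul (hone _ ?_ fun g hg => hlG g (List.mem_of_mem_take hg))
        (ih _ ?_ fun g hg => hlG g (List.mem_of_mem_drop hg)))
      · simp [hl, Nat.succ_mul]
      · simp [hl, Nat.succ_mul]
  have hzero : L n₁ ≤ ⊥ := Submodule.span_le.2 fun X ⟨g, _, P, hP, hX⟩ => by simp [hX, h₁ P hP]
  rintro X ⟨l, hl, hlG, rfl⟩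
  exact (Submodule.mem_bot K).1 (hzero (hall n₁ l hl hlG))

end Groth.Agent.Misc36
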